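import Cfsg.Agent.Omega.ML.UFour.Data
import Cfsg.Agent.SporadicStructure.U43Herm
import Cfsg.Agent.SporadicStructure.PsuMatch
import Cfsg.Agent.S0280
import Cfsg.Agent.Mrg.Omega.ML.OddExc
import Cfsg.Agent.Omega.KFacts
import Cfsg.Agent.Mrg.Omega.ML.InOf
import Cfsg.Agent.Mrg.Omega.ML.RowGTwoThree
import Cfsg.Agent.Mrg.Omega.TwoF.OrthTie
import Cfsg.Agent.S0292
import Cfsg.Agent.S0293
import Cfsg.Agent.S0294

section


/-!
# `U₄(3)`: three conjugates of an involution generate, one class of involutions, `C(z)` (helper844)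

`genBy : GenBy K0 3`, `normEl : NormEl K0` for the group `K0` on 280 points; `psu_iso : PSU 4 F 3 ≃* K0`.
-/

set_option autoImplicit false

namespace Cfsg.Agent.Omega.ML.UFour.Perm

open Cfsg Cfsg.Agent.SporadicStructure Cfsg.Agent.SporadicStructure.PermChain
  Cfsg.Agent.SporadicStructure.U43Perm Cfsg.Agent.SporadicStructure.FieldNine
  Cfsg.Agent.Omega.ML.UFour.Data Cfsg.Agent.Omega.ML.Gen3

/-! ### The isomorphism -/

theorem card_psu : Nat.card (Cfsg.PSU 4 K9 3) = 3265920 := by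
  have h := Cfsg.Agent.S0280.result (F := K9) (q := 3) K9.card_K9' 4 (by norm_num)
  have h1 : Nat.gcd 4 (3 + 1) = 4 := by decide
  have h2 : 3 ^ (4 * (4 - 1) / 2) * ∏ i ∈ Finset.range 4,
      (if Even i then 3 ^ (i + 1) + 1 else 3 ^ (i + 1) - 1) = 52254720 := by decide
  rw [h1, h2] at h
  omega

theorem exists_iso : Nonempty (Cfsg.PSU 4 K9 3 ≃* K0) :=
  PsuMatch.psu_iso_closure_of_match K9.card_K9' (by norm_num) U43Herm.P U43Herm.P_nonprop U43Herm.M σ
    U43Herm.act (card_psu.le.trans card_ge)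

theorem psu_iso {F : Type*} [Field F] [Fintype F] (hF : Fintype.card F = 9) :
    Nonempty (Cfsg.PSU 4 F 3 ≃* K0) := by
  obtain ⟨e⟩ := exists_iso
  obtain ⟨e'⟩ := PsuMatch.psu_iso_of_card (F := F) (K := K9) (hF.trans K9.card_K9.symm) 4 3
  exact ⟨e'.trans e⟩

theorem card_K0 : Nat.card K0 = 3265920 := by
  obtain ⟨e⟩ := exists_iso
  rw [← Nat.card_congr e.toEquiv, card_psu]

/-! ### The base -/

/-- the pointwise stabiliser of the base -/
def St : Subgroup (Equiv.Perm (Fin 280)) :=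
  ((K0 ⊓ MulAction.stabilizer (Equiv.Perm (Fin 280)) b1) ⊓ MulAction.stabilizer (Equiv.Perm (Fin 280)) b2) ⊓
    MulAction.stabilizer (Equiv.Perm (Fin 280)) b3

theorem card_St : Nat.card St ≤ 1 := by
  have h0 : 280 * Nat.card (K0 ⊓ MulAction.stabilizer (Equiv.Perm (Fin 280)) b1 : Subgroup _) ≤ Nat.card K0 :=
    card_step_mask K0 b1 (K0 ⊓ MulAction.stabilizer (Equiv.Perm (Fin 280)) b1) inf_le_left (fun g hg => hg.2)
      [tabA, tabB] (by
      intro u hu
      simp only [List.mem_cons, List.not_mem_nil, or_false] at hu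
      rcases hu with rfl | rfl
      · exact ⟨gen 0, gen_mem 0 (Or.inl rfl), gen_spec 0 (Or.inl rfl)⟩
      · exact ⟨gen 1, gen_mem 1 (Or.inr rfl), gen_spec 1 (Or.inr rfl)⟩) 8 mask0 280 orb0 card0
  have hK1 : ∀ g ∈ K1, g ∈ K0 ⊓ MulAction.stabilizer (Equiv.Perm (Fin 280)) b1 := fun g hg =>
    ⟨K1_le hg, K1_fix g hg⟩
  have h1 : 243 * Nat.card ((K0 ⊓ MulAction.stabilizer (Equiv.Perm (Fin 280)) b1) ⊓
      MulAction.stabilizer (Equiv.Perm (Fin 280)) b2 : Subgroup _) ≤
        Nat.card (K0 ⊓ MulAction.stabilizer (Equiv.Perm (Fin 280)) b1 : Subgroup _) :=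
    card_step_mask (K0 ⊓ MulAction.stabilizer (Equiv.Perm (Fin 280)) b1) b2
      ((K0 ⊓ MulAction.stabilizer (Equiv.Perm (Fin 280)) b1) ⊓ MulAction.stabilizer (Equiv.Perm (Fin 280)) b2)
      inf_le_left (fun g hg => hg.2)
      [tabT, tabR1, tabR2] (by
      intro u hu
      simp only [List.mem_cons, List.not_mem_nil, or_false] at hu
      rcases hu with rfl | rfl | rfl
      · exact ⟨t, hK1 _ (Subgroup.subset_closure (by simp)), t_spec⟩
      · exact ⟨r1, hK1 _ (Subgroup.subset_closure (by simp)), r1_spec⟩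
      · exact ⟨r2, hK1 _ (Subgroup.subset_closure (by simp)), r2_spec⟩) 5 mask1 243 orb1 card1
  have hK2 : ∀ g ∈ K2, g ∈ (K0 ⊓ MulAction.stabilizer (Equiv.Perm (Fin 280)) b1) ⊓
      MulAction.stabilizer (Equiv.Perm (Fin 280)) b2 := fun g hg => ⟨hK1 g (K2_le hg), K2_fix g hg⟩
  have h2 : 48 * Nat.card St ≤ Nat.card ((K0 ⊓ MulAction.stabilizer (Equiv.Perm (Fin 280)) b1) ⊓
      MulAction.stabilizer (Equiv.Perm (Fin 280)) b2 : Subgroup _) :=
    card_step_mask ((K0 ⊓ MulAction.stabilizer (Equiv.Perm (Fin 280)) b1) ⊓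
      MulAction.stabilizer (Equiv.Perm (Fin 280)) b2) b3 St inf_le_left (fun g hg => hg.2)
      [tabR1, tabR2] (by
      intro u hu
      simp only [List.mem_cons, List.not_mem_nil, or_false] at hu
      rcases hu with rfl | rfl
      · exact ⟨r1, hK2 _ (Subgroup.subset_closure (by simp)), r1_spec⟩
      · exact ⟨r2, hK2 _ (Subgroup.subset_closure (by simp)), r2_spec⟩) 4 mask2 48 orb2 card2
  rw [card_K0] at h0
  omega

/-- **An element is determined by the images of the base points.** -/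
theorem ext3 {g h : K0} (h1 : (g : Equiv.Perm (Fin 280)) b1 = (h : Equiv.Perm (Fin 280)) b1)
    (h2 : (g : Equiv.Perm (Fin 280)) b2 = (h : Equiv.Perm (Fin 280)) b2)
    (h3 : (g : Equiv.Perm (Fin 280)) b3 = (h : Equiv.Perm (Fin 280)) b3) : g = h := by
  have hmem : ((h⁻¹ * g : K0) : Equiv.Perm (Fin 280)) ∈ St := by
    have hf : ∀ b : Fin 280, (g : Equiv.Perm (Fin 280)) b = (h : Equiv.Perm (Fin 280)) b →
        ((h⁻¹ * g : K0) : Equiv.Perm (Fin 280)) b = b := by
      intro b hb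
      rw [Subgroup.coe_mul, Subgroup.coe_inv, Equiv.Perm.mul_apply, hb, ← Equiv.Perm.mul_apply, inv_mul_cancel,
        Equiv.Perm.one_apply]
    exact ⟨⟨⟨(h⁻¹ * g).2, hf b1 h1⟩, hf b2 h2⟩, hf b3 h3⟩
  have hs : Subsingleton St := (Finite.card_le_one_iff_subsingleton).1 card_St
  have h4 : (⟨_, hmem⟩ : St) = 1 := Subsingleton.elim _ _
  have h5 : ((h⁻¹ * g : K0) : Equiv.Perm (Fin 280)) = 1 := congrArg Subtype.val h4
  have h6 : h⁻¹ * g = 1 := Subtype.ext h5
  exact (inv_mul_eq_one.1 h6).symm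

/-! ### The letters -/

/-- the letters `0 .. 3` -/
def L1 (s : ℕ) : Equiv.Perm (Fin 280) :=
  if s = 2 then (w2.map gen).prod else if s = 3 then (w3.map gen).prod else gen s

theorem gen_spec' (s : ℕ) (hs : s < 2) (x : Fin 280) : (gen s x : ℕ) = look 9 (tabs.getD s 0) x := by
  rcases (by omega : s = 0 ∨ s = 1) with rfl | rfl
  · rfl
  · rfl

theorem L1_spec (s : ℕ) (hs : s < 4) (x : Fin 280) : (L1 s x : ℕ) = look 9 (tabs.getD s 0) x := by
  have e2 : ∀ s ∈ w2, s < 2 := by decide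
  have e3 : ∀ s ∈ w3, s < 2 := by decide
  rcases (by omega : s < 2 ∨ s = 2 ∨ s = 3) with h | rfl | rfl
  · have h1 : s ≠ 2 := by omega
    have h2 : s ≠ 3 := by omega
    rw [L1, if_neg h1, if_neg h2]
    exact gen_spec' s h x
  · rw [L1, if_pos rfl]
    exact wordCheck_spec chk2 gen (fun s hs => gen_spec' s (e2 s hs)) x
  · rw [L1, if_neg (by norm_num), if_pos rfl]
    exact wordCheck_spec chk3 gen (fun s hs => gen_spec' s (e3 s hs)) x

/-- the letters -/
def L2 (s : ℕ) : Equiv.Perm (Fin 280) := if s < 4 then L1 s else ((ws.getD (s - 4) []).map L1).prod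

theorem L2_spec (s : ℕ) (hs : s < 10) (x : Fin 280) : (L2 s x : ℕ) = look 9 (tabs.getD s 0) x := by
  have e : ∀ i, i < 6 → ∀ s ∈ ws.getD i [], s < 4 := by decide
  rcases Nat.lt_or_ge s 4 with h | h
  · rw [L2, if_pos h]
    exact L1_spec s h x
  · rw [L2, if_neg (by omega)]
    have h1 := List.all_eq_true.1 chkw (s - 4) (List.mem_range.2 (by omega))
    have h2 := wordCheck_spec h1 L1 (fun s' hs' => L1_spec s' (e (s - 4) (by omega) s' hs')) x
    rw [h2, Nat.sub_add_cancel h]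

theorem gen_mem' (s : ℕ) : gen s ∈ K0 := by
  by_cases h : s = 0
  · exact gen_mem s (Or.inl h)
  · have h1 : gen s = gen 1 := by rw [gen, gen, if_neg h, if_neg one_ne_zero]
    rw [h1]
    exact gen_mem 1 (Or.inr rfl)

theorem L1_mem (s : ℕ) : L1 s ∈ K0 := by
  have h1 : ∀ l : List ℕ, (l.map gen).prod ∈ K0 := fun l => Subgroup.list_prod_mem _ (by
    intro x hx
    obtain ⟨s, -, rfl⟩ := List.mem_map.1 hx
    exact gen_mem' s)
  rw [L1]
  split_ifs
  · exact h1 _
  · exact h1 _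
  · exact gen_mem' s

theorem L2_mem (s : ℕ) : L2 s ∈ K0 := by
  rw [L2]
  split_ifs
  · exact L1_mem s
  · refine Subgroup.list_prod_mem _ ?_
    intro x hx
    obtain ⟨s, -, rfl⟩ := List.mem_map.1 hx
    exact L1_mem s

/-- the letter as an element of the group -/
def le (s : ℕ) : K0 := ⟨L2 s, L2_mem s⟩

/-- the element of a word -/
def wd (l : List ℕ) : K0 := (l.map le).prod

theorem wd_nil : wd [] = 1 := rfl

theorem wd_cons (s : ℕ) (l : List ℕ) : wd (s :: l) = le s * wd l := by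
  rw [wd, wd, List.map_cons, List.prod_cons]

theorem wd_append (l l' : List ℕ) : wd (l ++ l') = wd l * wd l' := by
  rw [wd, wd, wd, List.map_append, List.prod_append]

theorem wd_single (s : ℕ) : wd [s] = le s := by rw [wd_cons, wd_nil, mul_one]

theorem coe_wd (l : List ℕ) : (wd l : Equiv.Perm (Fin 280)) = (l.map L2).prod := by
  induction l with
  | nil => rfl
  | cons s l ih => rw [wd_cons, Subgroup.coe_mul, ih, List.map_cons, List.prod_cons]; rfl

theorem ok_spec {l : List ℕ} (h : ok l = true) : ∀ s ∈ l, s < 10 := by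
  intro s hs
  have h1 := List.all_eq_true.1 h s hs
  simpa [Nat.blt] using h1

theorem wd_apply {l : List ℕ} (h : ok l = true) (x : Fin 280) :
    ((wd l : Equiv.Perm (Fin 280)) x : ℕ) = evalWord 9 tabs l x := by
  rw [coe_wd]
  exact evalWord_spec tabs L2 l (fun s hs => L2_spec s (ok_spec h s hs)) x

theorem eqw_spec {l l' : List ℕ} (h : eqw l l' = true) : wd l = wd l' := by
  simp only [eqw, eq3, Bool.and_eq_true] at h
  obtain ⟨h1, h2, h3, h4, h5⟩ := h
  refine ext3 (Fin.ext ?_) (Fin.ext ?_) (Fin.ext ?_)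
  · rw [wd_apply h1, wd_apply h2]
    exact Nat.eq_of_beq_eq_true h3
  · rw [wd_apply h1, wd_apply h2]
    exact Nat.eq_of_beq_eq_true h4
  · rw [wd_apply h1, wd_apply h2]
    exact Nat.eq_of_beq_eq_true h5

theorem eq3_of_eq {l l' : List ℕ} (h1 : ok l = true) (h2 : ok l' = true) (h : wd l = wd l') : eq3 l l' = true := by
  have e : ∀ x : Fin 280, Nat.beq (evalWord 9 tabs l x) (evalWord 9 tabs l' x) = true := by
    intro x
    rw [← wd_apply h1, ← wd_apply h2, h]
    exact Nat.beq_refl _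
  rw [eq3, Bool.and_eq_true, Bool.and_eq_true]
  exact ⟨e b1, e b2, e b3⟩

theorem ok_append {l l' : List ℕ} (h : ok l = true) (h' : ok l' = true) : ok (l ++ l') = true := by
  rw [ok, List.all_append, Bool.and_eq_true]
  exact ⟨h, h'⟩

/-! ### The Sylow 2-subgroup -/

theorem lt_lt (k : ℕ) (hk : k < 7) : lt k < 10 := by
  have : ∀ k < 7, lt k < 10 := by decide
  exact this k hk

theorem ok_nfk (e : ℕ) : ∀ k ≤ 7, ok (nfk e k) = true
  | 0, _ => rfl
  | k + 1, hk => by
    have ih := ok_nfk e k (by omega)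
    rw [nfk]
    cases Nat.testBit e k with
    | false => exact ih
    | true =>
      rw [cond_true, ok, List.all_cons, Bool.and_eq_true]
      refine ⟨?_, ih⟩
      simpa [Nat.blt] using lt_lt k (by omega)

theorem ok_nf (e : ℕ) : ok (nf e) = true := ok_nfk e 7 le_rfl

/-- the generators of the 2-subgroup -/
def gT : Set K0 := {g | ∃ k < 7, g = le (lt k)}

/-- the 2-subgroup -/
def T : Subgroup K0 := Subgroup.closure gT

theorem mem_nf {g : K0} (hg : g ∈ T) : ∃ e < 128, g = wd (nf e) := by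
  have h0 : (1 : K0) = wd (nf 0) := by
    have : nf 0 = [] := by decide
    rw [this, wd_nil]
  refine Subgroup.closure_induction_left (p := fun g _ => ∃ e < 128, g = wd (nf e)) ⟨0, by norm_num, h0⟩ ?_ ?_ hg
  · rintro x ⟨k, hk, rfl⟩ y _ ⟨e, he, rfl⟩
    have h1 := List.all_eq_true.1 (List.all_eq_true.1 chkmt k (List.mem_range.2 hk)) e (List.mem_range.2 he)
    rw [Bool.and_eq_true] at h1
    have h2 : look 7 (Data.mt.getD k 0) e < 128 := by simpa [Nat.blt] using h1.1
    refine ⟨look 7 (Data.mt.getD k 0) e, h2, ?_⟩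
    rw [← eqw_spec h1.2, wd_cons]
  · rintro x ⟨k, hk, rfl⟩ y _ ⟨e, he, rfl⟩
    have h1 := List.all_eq_true.1 (List.all_eq_true.1 chkmti k (List.mem_range.2 hk)) e (List.mem_range.2 he)
    rw [Bool.and_eq_true] at h1
    have h2 : look 7 (Data.mti.getD k 0) e < 128 := by simpa [Nat.blt] using h1.1
    refine ⟨look 7 (Data.mti.getD k 0) e, h2, ?_⟩
    rw [← eqw_spec h1.2, wd_cons, inv_mul_cancel_left]

theorem nf_mem (e : ℕ) : wd (nf e) ∈ T := by
  have h : ∀ k ≤ 7, wd (nfk e k) ∈ T := by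
    intro k
    induction k with
    | zero => intro _; exact T.one_mem
    | succ k ih =>
      intro hk
      rw [nfk]
      cases Nat.testBit e k with
      | false => exact ih (by omega)
      | true =>
        rw [cond_true, wd_cons]
        exact T.mul_mem (Subgroup.subset_closure ⟨k, by omega, rfl⟩) (ih (by omega))
  exact h 7 le_rfl

theorem card_T : Nat.card T = 128 := by
  apply le_antisymm
  · have h1 : Function.Surjective (fun e : Fin 128 => (⟨wd (nf e), nf_mem e⟩ : T)) := by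
      rintro ⟨g, hg⟩
      obtain ⟨e, he, rfl⟩ := mem_nf hg
      exact ⟨⟨e, he⟩, rfl⟩
    have h2 := Nat.card_le_card_of_surjective _ h1
    have h3 : Nat.card (Fin 128) = 128 := by simp
    rwa [h3] at h2
  · have h1 : Function.Injective (fun e : Fin 128 => (⟨wd (nf e), nf_mem e⟩ : T)) := by
      intro e f hef
      have h2 : wd (nf e) = wd (nf f) := congrArg Subtype.val hef
      have h3 : ∀ x : Fin 280, evalWord 9 tabs (nf e) x = evalWord 9 tabs (nf f) x := by
        intro x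
        rw [← wd_apply (ok_nf e), ← wd_apply (ok_nf f), h2]
      have h4 : code e = code f := by
        have e1 := h3 b1
        have e2 := h3 b2
        have e3 := h3 b3
        change evalWord 9 tabs (nf e) 10 = evalWord 9 tabs (nf f) 10 at e1
        change evalWord 9 tabs (nf e) 88 = evalWord 9 tabs (nf f) 88 at e2
        change evalWord 9 tabs (nf e) 0 = evalWord 9 tabs (nf f) 0 at e3
        rw [code, code, e1, e2, e3]
      have h5 := List.inj_on_of_nodup_map chkcode (List.mem_range.2 e.2) (List.mem_range.2 f.2) h4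
      exact Fin.ext h5
    have h2 := Nat.card_le_card_of_injective _ h1
    have h3 : Nat.card (Fin 128) = 128 := by simp
    rwa [h3] at h2

theorem isPGroup_T : IsPGroup 2 T := IsPGroup.of_card (n := 7) (by rw [card_T]; norm_num)

theorem index_T : ¬ 2 ∣ T.index := by
  have h1 := T.card_mul_index
  rw [card_T, card_K0] at h1
  omega

/-- Every 2-element is conjugate into `T`. -/
theorem exists_conj {x : K0} (hx : x * x = 1) : ∃ g : K0, g * x * g⁻¹ ∈ T := by
  have : Fact (Nat.Prime 2) := ⟨Nat.prime_two⟩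
  have h1 : IsPGroup 2 (Subgroup.zpowers x) := by
    intro y
    obtain ⟨k, hk⟩ := Subgroup.mem_zpowers_iff.1 y.2
    refine ⟨1, Subtype.ext ?_⟩
    rw [pow_one, SubgroupClass.coe_pow, ← hk, ← zpow_natCast, ← zpow_mul, mul_comm, zpow_mul, zpow_natCast, pow_two,
      hx, one_zpow]
    rfl
  obtain ⟨P, hP⟩ := h1.exists_le_sylow
  let Q : Sylow 2 K0 := isPGroup_T.toSylow index_T
  obtain ⟨g, hg⟩ := MulAction.exists_smul_eq K0 P Q
  refine ⟨g, ?_⟩
  have h2 : x ∈ (P : Subgroup K0) := hP (Subgroup.mem_zpowers x)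
  have h3 : (Q : Subgroup K0) = T := rfl
  rw [← h3, ← hg]
  exact ⟨x, h2, rfl⟩

/-- **One class of involutions.** -/
theorem exists_B {x : K0} (hx1 : x ≠ 1) (hx : x * x = 1) : ∃ g : K0, g * x * g⁻¹ = le 1 := by
  obtain ⟨g, hg⟩ := exists_conj hx
  obtain ⟨e, he, h1⟩ := mem_nf hg
  have h2 := List.all_eq_true.1 chkc e (List.mem_range.2 he)
  rw [Bool.or_eq_true, Bool.or_eq_true, Bool.not_eq_true'] at h2
  have hxx : (g * x * g⁻¹) * (g * x * g⁻¹) = 1 := by
    calc (g * x * g⁻¹) * (g * x * g⁻¹) = g * (x * x) * g⁻¹ := by group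
      _ = 1 := by rw [hx, mul_one, mul_inv_cancel]
  rcases h2 with h2 | h2 | h2
  · exfalso
    have h3 : e = 0 := Nat.eq_of_beq_eq_true h2
    subst h3
    have h4 : g * x * g⁻¹ = 1 := h1
    apply hx1
    calc x = g⁻¹ * (g * x * g⁻¹) * g := by group
      _ = 1 := by rw [h4, mul_one, inv_mul_cancel]
  · exfalso
    rw [h1, ← wd_append, ← wd_nil] at hxx
    rw [eq3_of_eq (ok_append (ok_nf e) (ok_nf e)) rfl hxx] at h2
    exact Bool.noConfusion h2
  · have h3 := eqw_spec h2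
    rw [wd_append, wd_cons] at h3
    refine ⟨wd (cws.getD e []) * g, ?_⟩
    calc wd (cws.getD e []) * g * x * (wd (cws.getD e []) * g)⁻¹
        = wd (cws.getD e []) * (g * x * g⁻¹) * (wd (cws.getD e []))⁻¹ := by group
      _ = le 1 := by rw [h1, h3, mul_inv_cancel_right]

/-! ### The normal elementary abelian subgroups of `C(B)` -/

theorem T_comm {g : K0} (hg : g ∈ T) : g * le 1 = le 1 * g := by
  have h1 : T ≤ Subgroup.centralizer {le 1} := by
    rw [T, Subgroup.closure_le]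
    rintro _ ⟨k, hk, rfl⟩
    have h2 := eqw_spec (List.all_eq_true.1 chkB k (List.mem_range.2 hk))
    rw [wd_cons, wd_single, wd_cons, wd_single] at h2
    exact Subgroup.mem_centralizer_singleton_iff.2 h2
  exact Subgroup.mem_centralizer_singleton_iff.1 (h1 hg)

theorem normEl_B (N : Subgroup K0) (h1 : ∀ x ∈ N, x * le 1 = le 1 * x)
    (h2 : ∀ c : K0, c * le 1 = le 1 * c → ∀ x ∈ N, c * x * c⁻¹ ∈ N) (h3 : ∀ x ∈ N, x * x = 1) : Nat.card N ≤ 2 := by
  have : Fact (Nat.Prime 2) := ⟨Nat.prime_two⟩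
  -- `N ≤ T`
  have hN : IsPGroup 2 N := fun x => ⟨1, Subtype.ext (by rw [pow_one, pow_two]; exact h3 x x.2)⟩
  have hle : N ≤ T := by
    have h4 : T ≤ Subgroup.normalizer (N : Set K0) := by
      intro t ht
      rw [Subgroup.mem_normalizer_iff]
      intro x
      refine ⟨fun hx => h2 t (T_comm ht) x hx, fun hx => ?_⟩
      have h5 := h2 t⁻¹ (T_comm (T.inv_mem ht)) _ hx
      have h6 : t⁻¹ * (t * x * t⁻¹) * t⁻¹⁻¹ = x := by group
      rwa [h6] at h5
    have h5 : IsPGroup 2 (T ⊔ N : Subgroup K0) := isPGroup_T.to_sup_of_normal_right' hN h4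
    have h6 : T ⊔ N = T := (isPGroup_T.toSylow index_T).is_maximal' h5 le_sup_left
    rw [← h6]
    exact le_sup_right
  have hkey : ∀ x ∈ N, x = 1 ∨ x = le 1 := by
    intro x hx
    obtain ⟨e, he, rfl⟩ := mem_nf (hle hx)
    have h4 := List.all_eq_true.1 chkn e (List.mem_range.2 he)
    rw [Bool.or_eq_true, Bool.or_eq_true, Bool.or_eq_true, Bool.not_eq_true', Bool.not_eq_true'] at h4
    rcases h4 with h4 | h4 | h4 | h4
    · have h5 : e = 0 := Nat.eq_of_beq_eq_true h4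
      subst h5
      exact Or.inl rfl
    · have h5 : e = 1 := Nat.eq_of_beq_eq_true h4
      subst h5
      right
      have h6 : nf 1 = [1] := by decide
      rw [h6, wd_single]
    · exfalso
      have h5 := h3 _ hx
      rw [← wd_append, ← wd_nil] at h5
      rw [eq3_of_eq (ok_append (ok_nf e) (ok_nf e)) rfl h5] at h4
      exact Bool.noConfusion h4
    · exfalso
      have hc : wd cw * le 1 = le 1 * wd cw := by
        have h5 := eqw_spec chkcB
        rwa [wd_append, wd_single, wd_cons] at h5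
      have hci : wd cwi = (wd cw)⁻¹ := by
        have h5 := eqw_spec chkci
        rw [wd_append, wd_nil] at h5
        exact eq_inv_of_mul_eq_one_right h5
      have h5 := h2 _ hc _ hx
      -- the two elements of `N` commute
      have h6 : wd cw * wd (nf e) * (wd cw)⁻¹ * wd (nf e) = wd (nf e) * (wd cw * wd (nf e) * (wd cw)⁻¹) := by
        have e1 := h3 _ h5
        have e2 := h3 _ hx
        have e3 := h3 _ (N.mul_mem h5 hx)
        have f1 := inv_eq_of_mul_eq_one_left e1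
        have f2 := inv_eq_of_mul_eq_one_left e2
        have f3 := inv_eq_of_mul_eq_one_left e3
        rw [mul_inv_rev, f1, f2] at f3
        exact f3.symm
      have okc : ok cw = true := by decide
      have okci : ok cwi = true := by decide
      have h7 : eq3 (cw ++ (nf e ++ (cwi ++ nf e))) (nf e ++ (cw ++ (nf e ++ cwi))) = true := by
        refine eq3_of_eq (ok_append okc (ok_append (ok_nf e) (ok_append okci (ok_nf e))))
          (ok_append (ok_nf e) (ok_append okc (ok_append (ok_nf e) okci))) ?_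
        simp only [wd_append, hci]
        rw [← mul_assoc, ← mul_assoc, h6]
        group
      rw [h7] at h4
      exact Bool.noConfusion h4
  have h4 : (N : Set K0) ⊆ {1, le 1} := fun x hx => hkey x hx
  have h5 : Nat.card N ≤ Set.ncard ({1, le 1} : Set K0) := by
    rw [← SetLike.coe_sort_coe, Nat.card_coe_set_eq]
    exact Set.ncard_le_ncard h4 (Set.toFinite _)
  refine h5.trans ((Set.ncard_insert_le _ _).trans ?_)
  rw [Set.ncard_singleton]

/-- **The normal elementary abelian 2-subgroups of the centraliser of an involution.** -/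
theorem normEl : NormEl K0 := by
  intro z hz1 hzz N h1 h2 h3
  obtain ⟨g, hg⟩ := exists_B hz1 hzz
  have h4 := normEl_B (N.map (MulAut.conj g).toMonoidHom) (by
    rintro _ ⟨x, hx, rfl⟩
    show g * x * g⁻¹ * le 1 = le 1 * (g * x * g⁻¹)
    rw [← hg]
    calc g * x * g⁻¹ * (g * z * g⁻¹) = g * (x * z) * g⁻¹ := by group
      _ = g * (z * x) * g⁻¹ := by rw [h1 x hx]
      _ = _ := by group) (by
    intro c hc
    rintro _ ⟨x, hx, rfl⟩
    refine ⟨(g⁻¹ * c * g) * x * (g⁻¹ * c * g)⁻¹, h2 _ ?_ x hx, ?_⟩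
    · rw [← hg] at hc
      calc g⁻¹ * c * g * z = g⁻¹ * (c * (g * z * g⁻¹)) * g := by group
        _ = g⁻¹ * (g * z * g⁻¹ * c) * g := by rw [hc]
        _ = _ := by group
    · show g * (g⁻¹ * c * g * x * (g⁻¹ * c * g)⁻¹) * g⁻¹ = c * (g * x * g⁻¹) * c⁻¹
      group) (by
    rintro _ ⟨x, hx, rfl⟩
    rw [← map_mul, h3 x hx, map_one])
  rwa [← Nat.card_congr (N.equivMapOfInjective (MulAut.conj g).toMonoidHom (MulAut.conj g).injective).toEquiv] at h4

/-! ### Generation -/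

theorem closure_top {H : Subgroup K0} (h0 : le 0 ∈ H) (h1 : le 1 ∈ H) : H = ⊤ := by
  rw [eq_top_iff]
  intro g _
  have h2 : K0 ≤ H.map K0.subtype := by
    change Subgroup.closure (Set.range σ) ≤ _
    rw [Subgroup.closure_le]
    rintro _ ⟨s, rfl⟩
    fin_cases s
    · exact ⟨le 0, h0, rfl⟩
    · exact ⟨le 1, h1, rfl⟩
  obtain ⟨x, hx, hxg⟩ := h2 g.2
  have h3 : x = g := Subtype.ext hxg
  exact h3 ▸ hx

theorem wd_flatMap (f : ℕ → List ℕ) (l : List ℕ) : wd (l.flatMap f) = (l.map fun i => wd (f i)).prod := by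
  induction l with
  | nil => rfl
  | cons s l ih => rw [List.flatMap_cons, wd_append, ih, List.map_cons, List.prod_cons]

/-- **Three conjugates of an involution generate.** -/
theorem genBy : GenBy K0 3 := by
  intro x hx1 hxx
  obtain ⟨g, hg⟩ := exists_B hx1 hxx
  refine ⟨fun i => wd (av i) * g, ?_⟩
  set H := Subgroup.closure (Set.range fun i : Fin 3 => wd (av i) * g * x * (wd (av i) * g)⁻¹) with hH
  have hb : ∀ i < 3, wd (bw i) ∈ H := by
    intro i hi
    have h1 := List.all_eq_true.1 chkav i (List.mem_range.2 hi)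
    rw [Bool.and_eq_true] at h1
    have h2 := eqw_spec h1.1
    have h3 := eqw_spec h1.2
    rw [wd_append, wd_nil] at h2
    rw [wd_append, wd_cons, eq_inv_of_mul_eq_one_right h2] at h3
    refine Subgroup.subset_closure ⟨⟨i, hi⟩, ?_⟩
    show wd (av i) * g * x * (wd (av i) * g)⁻¹ = wd (bw i)
    rw [h3, ← hg]
    group
  refine closure_top ?_ ?_
  · have h1 := eqw_spec chkA
    rw [wd_single, wd_flatMap] at h1
    rw [← h1]
    refine Subgroup.list_prod_mem _ ?_
    intro y hy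
    obtain ⟨i, hi, rfl⟩ := List.mem_map.1 hy
    have h2 : ∀ i ∈ wA, i < 3 := by decide
    exact hb i (h2 i hi)
  · have h1 := hb 0 (by norm_num)
    have h2 : bw 0 = [1] := rfl
    rwa [h2, wd_single] at h1

end Cfsg.Agent.Omega.ML.UFour.Perm

end

section


/-!
# (ML), the K-list end: the row `U₄(3)` (all covers, all extensions; helper844)

`row : Dead @IsUFourThree`, the field `u43` of `RowsML`.
-/

set_option autoImplicit false

namespace Cfsg.Agent.Omega.ML.RowUFour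

open Cfsg Cfsg.Agent.Omega.KFacts Cfsg.Agent.Omega.ML.Rows Cfsg.Agent.Omega.ML.Gen3
  Cfsg.Agent.Omega.ML.UFour

universe u v

/-- **The row `u43`.** -/
theorem row : Dead.{u, v} @IsUFourThree := by
  refine dead_of_five ?_
  rintro S _ ⟨F, _, _, hF, ⟨e⟩⟩
  obtain ⟨ε⟩ := Perm.psu_iso hF
  refine ⟨GenBy.equiv (e.trans ε) Perm.genBy, ?_, (Out.rk hF).equiv e, OutLe.equiv e (Out.outLe hF),
    NormEl.equiv (e.trans ε) Perm.normEl⟩
  rw [Nat.card_congr (e.trans ε).toEquiv, Perm.card_K0]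
  norm_num

end Cfsg.Agent.Omega.ML.RowUFour

end

section


/-!
# (ML), the K-list end: `PΩ_{2m+1}(q)`, `PΩ⁺_{2m}(q)`, `PΩ⁻_{2m}(q)`, `q` odd (helper548)

`RK`: `2m + 1`, `2m`, `2m` (`TwoF.RkPOm`); `LB`: `2 q ^ (n - 4)`, `n` the dimension (`TwoF.OrthRow`); orders: S0292, S0293,
S0294.
-/

set_option autoImplicit false

universe u v w

namespace Cfsg.Agent.Omega.ML.RowOm

open Cfsg Cfsg.Agent.Omega.TwoF Cfsg.Agent.LieClassical Cfsg.Agent.LieClassical.OrthCore

/-! ### numbers -/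

theorem prod_le (q k : ℕ) : ∏ i ∈ Finset.range k, (q ^ (2 * (i + 1)) - 1) ≤ q ^ (k * (k + 1)) := by
  induction k with
  | zero => simp
  | succ k ih =>
    rw [Finset.prod_range_succ, show (k + 1) * (k + 1 + 1) = k * (k + 1) + 2 * (k + 1) by ring, pow_add]
    exact Nat.mul_le_mul ih (Nat.sub_le _ _)

theorem bd (k : ℕ) : 2 * (k + 4) ^ 2 + 5 * (k + 4) + 2 ≤ 2 * 3 ^ (2 * k + 4) := by
  induction k with
  | zero => norm_num
  | succ k ih =>
    rw [show 2 * (k + 1) + 4 = (2 * k + 4) + 2 by ring, pow_add]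
    nlinarith [ih, Nat.zero_le k]

theorem bd' (k : ℕ) : 2 * (k + 4) ^ 2 + 3 * (k + 4) ≤ 2 * 3 ^ (2 * k + 3) := by
  induction k with
  | zero => norm_num
  | succ k ih =>
    rw [show 2 * (k + 1) + 3 = (2 * k + 3) + 2 by ring, pow_add]
    nlinarith [ih, Nat.zero_le k]

theorem num_odd {m q : ℕ} (hm : 3 ≤ m) (hq : 3 ≤ q) :
    (2 * m + 1 - 1) * (m * (2 * m + 1) * (q - 1) + 2 * (2 * m + 1) - 1) < (2 * m + 1) * (2 * q ^ (2 * m - 3)) := by
  rcases Nat.lt_or_ge 3 m with h | h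
  · obtain ⟨k, rfl⟩ : ∃ k, m = k + 4 := ⟨m - 4, by omega⟩
    have h1 := OddExcNum.num (q := q) (c := (k + 4) * (2 * (k + 4) + 1)) (a := 2 * (k + 4) + 1) (k := 2 * k + 4) hq
      (by omega) (by have := bd k; nlinarith)
    rwa [show 2 * (k + 4) - 3 = 2 * k + 4 + 1 by omega]
  · obtain rfl : m = 3 := by omega
    obtain ⟨r, rfl⟩ : ∃ r, q = r + 3 := ⟨q - 3, by omega⟩
    norm_num
    nlinarith [Nat.zero_le (r ^ 3), Nat.zero_le (r ^ 2)]

theorem num_even {m q : ℕ} (hm : 4 ≤ m) (hq : 3 ≤ q) :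
    (2 * m - 1) * (m * (2 * m - 1) * (q - 1) + 2 * (2 * m) - 1) < 2 * m * (2 * q ^ (2 * m - 4)) := by
  obtain ⟨k, rfl⟩ : ∃ k, m = k + 4 := ⟨m - 4, by omega⟩
  have h1 := OddExcNum.num (q := q) (c := (k + 4) * (2 * (k + 4) - 1)) (a := 2 * (k + 4)) (k := 2 * k + 3) hq
    (by omega) (by
      have := bd' k
      have h2 : 2 * (k + 4) - 1 = 2 * k + 7 := by omega
      rw [h2]
      nlinarith)
  rwa [show 2 * (k + 4) - 4 = 2 * k + 3 + 1 by omega]

section

variable {F : Type w} [Field F] [Finite F]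

theorem odd_card (h2 : (2 : F) ≠ 0) : Odd (Nat.card F) := by
  have := Fintype.ofFinite F
  rw [Nat.card_eq_fintype_card]
  rcases Nat.even_or_odd (Fintype.card F) with h | h
  · exfalso
    obtain ⟨k, hk⟩ := h
    obtain ⟨p, hc, hp, hp2⟩ := RowOrth.exists_char h2
    obtain ⟨n, -, hn⟩ := FiniteField.card F p
    have h3 : 2 ∣ p ^ (n : ℕ) := ⟨k, by rw [← hn, hk]; ring⟩
    exact hp2 ((Nat.prime_dvd_prime_iff_eq Nat.prime_two hp).1 (Nat.prime_two.dvd_of_dvd_pow h3)).symm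
  · exact h

theorem card_odd {m : ℕ} (hm : 3 ≤ m) (h2 : (2 : F) ≠ 0) :
    Nat.card (Cfsg.POmega F (Cfsg.quadFormOdd m F)) ≤ Nat.card F ^ (m * (2 * m + 1)) := by
  have := Fintype.ofFinite F
  have h1 := Cfsg.Agent.S0292.result (F := F) (q := Nat.card F) Nat.card_eq_fintype_card.symm (odd_card h2) m hm
  have h3 : Nat.card F ^ (m ^ 2) * ∏ i ∈ Finset.range m, (Nat.card F ^ (2 * (i + 1)) - 1) ≤
      Nat.card F ^ (m * (2 * m + 1)) := by
    rw [show m * (2 * m + 1) = m ^ 2 + m * (m + 1) by ring, pow_add]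
    exact Nat.mul_le_mul_left _ (prod_le _ _)
  omega

theorem card_plus {m : ℕ} (hm : 4 ≤ m) :
    Nat.card (Cfsg.POmega F (Cfsg.quadFormPlus m F)) ≤ Nat.card F ^ (m * (2 * m - 1)) := by
  have := Fintype.ofFinite F
  have h1 := Cfsg.Agent.S0293.result (F := F) (q := Nat.card F) Nat.card_eq_fintype_card.symm m hm
  have h3 : Nat.card F ^ (m * (m - 1)) * (Nat.card F ^ m - 1) *
      ∏ i ∈ Finset.range (m - 1), (Nat.card F ^ (2 * (i + 1)) - 1) ≤ Nat.card F ^ (m * (2 * m - 1)) := by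
    obtain ⟨k, rfl⟩ : ∃ k, m = k + 1 := ⟨m - 1, by omega⟩
    rw [Nat.add_sub_cancel, show (k + 1) * (2 * (k + 1) - 1) = (k + 1) * k + (k + 1) + k * (k + 1) by
      rw [show 2 * (k + 1) - 1 = 2 * k + 1 by omega]; ring, pow_add _ _ (k * (k + 1)),
      pow_add _ ((k + 1) * k) (k + 1)]
    exact Nat.mul_le_mul (Nat.mul_le_mul_left _ (Nat.sub_le _ _)) (prod_le _ _)
  rw [← h1] at h3
  exact (Nat.le_mul_of_pos_left _ (Nat.gcd_pos_of_pos_left _ (by norm_num))).trans h3

theorem card_minus {m : ℕ} (hm : 4 ≤ m) (h2 : (2 : F) ≠ 0) (a b : F)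
    (hab : ∀ z₁ z₂ : F, z₁ ^ 2 + a * z₁ * z₂ + b * z₂ ^ 2 = 0 → z₁ = 0 ∧ z₂ = 0) :
    Nat.card (Cfsg.POmega F (Cfsg.quadFormMinus (m - 1) F a b)) ≤ Nat.card F ^ (m * (2 * m - 1)) := by
  have := Fintype.ofFinite F
  have h1 := Cfsg.Agent.S0294.result (F := F) (q := Nat.card F) Nat.card_eq_fintype_card.symm m hm a b hab
  have h0 : 1 ≤ Nat.card F ^ m := Nat.one_le_pow _ _ Nat.card_pos
  have h3 : Nat.card F ^ (m * (m - 1)) * (Nat.card F ^ m + 1) *
      ∏ i ∈ Finset.range (m - 1), (Nat.card F ^ (2 * (i + 1)) - 1) ≤ 2 * Nat.card F ^ (m * (2 * m - 1)) := by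
    calc Nat.card F ^ (m * (m - 1)) * (Nat.card F ^ m + 1) *
          ∏ i ∈ Finset.range (m - 1), (Nat.card F ^ (2 * (i + 1)) - 1)
        ≤ Nat.card F ^ (m * (m - 1)) * (2 * Nat.card F ^ m) * Nat.card F ^ ((m - 1) * (m - 1 + 1)) :=
          Nat.mul_le_mul (Nat.mul_le_mul_left _ (by omega)) (prod_le _ _)
      _ = 2 * Nat.card F ^ (m * (2 * m - 1)) := by
          obtain ⟨k, rfl⟩ : ∃ k, m = k + 1 := ⟨m - 1, by omega⟩
          rw [Nat.add_sub_cancel, show (k + 1) * (2 * (k + 1) - 1) = (k + 1) * k + (k + 1) + k * (k + 1) by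
            rw [show 2 * (k + 1) - 1 = 2 * k + 1 by omega]; ring, pow_add _ _ (k * (k + 1)),
            pow_add _ ((k + 1) * k) (k + 1)]
          ring
  rw [← h1] at h3
  have h4 : 2 ≤ Nat.gcd 4 (Nat.card F ^ m + 1) := by
    have h5 : 2 ∣ Nat.gcd 4 (Nat.card F ^ m + 1) := by
      refine Nat.dvd_gcd (by norm_num) ?_
      have h6 := (odd_card h2).pow (n := m)
      exact (h6.add_one).two_dvd
    exact Nat.le_of_dvd (Nat.gcd_pos_of_pos_left _ (by norm_num)) h5
  have h5 := (Nat.mul_le_mul_right (Nat.card (Cfsg.POmega F (Cfsg.quadFormMinus (m - 1) F a b))) h4).trans h3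
  omega

end

/-- transport of the numerical criterion -/
theorem congr {S : Type w} [Group S] {S' : Type u} [Group S'] {n a N : ℕ} (h1 : Lie.Heis.LB.{w, u, v} S n)
    (h2 : TwoF.RK S a) (h3 : Nat.card S ≤ 2 ^ N) (h4 : (a - 1) * (N + 2 * a - 1) < a * n) (e : S ≃* S') :
    Num.NumML.{u, v} S' :=
  Num.NumML.of_card (h1.congr e) ((OddExcNum.rk_of_rk h2).of_equiv e) (by rwa [← Nat.card_congr e.toEquiv]) h4

section

variable {F : Type w} [Field F] [Finite F] {p : ℕ} [Fact p.Prime] [CharP F p]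

/-- the lower bound in the form `2 q ^ (n - 4)` -/
theorem lb {I : Type} [Fintype I] [DecidableEq I] (hp2 : p ≠ 2) (Q : QuadraticForm F (I → F)) (hQ : Nondeg Q)
    {n : ℕ} (hI : Fintype.card I = n) (hn : 7 ≤ n) :
    Lie.Heis.LB.{w, u, v} (Cfsg.POmega F (⇑Q)) (2 * Nat.card F ^ (n - 4)) := by
  subst hI
  exact (OrthEl.lb_all.{u, v, w} hp2 Q (OrthEl.nondeg_polarBilin hQ) hn).mono
    (Nat.mul_le_mul_right _ (RowOrth.two_le_orderOf Fact.out hp2))

/-- **`PΩ_{2m+1}(q)`, `q` odd, `m ≥ 3`** -/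
theorem odd (hp2 : p ≠ 2) {m : ℕ} (hm : 3 ≤ m) {S : Type u} [Group S]
    (e : Cfsg.POmega F (Cfsg.quadFormOdd m F) ≃* S) : Num.NumML.{u, v} S := by
  have h2 : (2 : F) ≠ 0 := OrthEl.two_ne hp2
  have h3 : 3 ≤ Nat.card F := RowOrth.three_le_card Fact.out hp2
  have h1 := lb.{u, v} hp2 (OrthForms.oddForm m F) (OrthForms.nondeg_oddForm m F h2) (n := 2 * m + 1)
    (by rw [Fintype.card_sum, Fintype.card_sum, Fintype.card_fin, Fintype.card_unit]; omega) (by omega)
  rw [show 2 * m + 1 - 4 = 2 * m - 3 by omega, OrthForms.coe_oddForm] at h1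
  exact congr h1 (RkPOm.odd hm h2)
    ((card_odd hm h2).trans (OddExcNum.pow_le_two_pow Nat.card_pos)) (num_odd hm h3) e

/-- **`PΩ⁺_{2m}(q)`, `q` odd, `m ≥ 4`** -/
theorem plus (hp2 : p ≠ 2) {m : ℕ} (hm : 4 ≤ m) {S : Type u} [Group S]
    (e : Cfsg.POmega F (Cfsg.quadFormPlus m F) ≃* S) : Num.NumML.{u, v} S := by
  have h2 : (2 : F) ≠ 0 := OrthEl.two_ne hp2
  have h3 : 3 ≤ Nat.card F := RowOrth.three_le_card Fact.out hp2
  have h1 := lb.{u, v} hp2 (OrthForms.plusForm m F) (OrthForms.nondeg_plusForm m F) (n := 2 * m)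
    (by rw [Fintype.card_sum, Fintype.card_fin]; omega) (by omega)
  rw [OrthForms.coe_plusForm] at h1
  exact congr h1 (RkPOm.plus hm h2)
    ((card_plus hm).trans (OddExcNum.pow_le_two_pow Nat.card_pos)) (num_even hm h3) e

/-- **`PΩ⁻_{2m}(q)`, `q` odd, `m ≥ 4`** -/
theorem minus (hp2 : p ≠ 2) {m : ℕ} (hm : 4 ≤ m) (a b : F)
    (hab : ∀ z₁ z₂ : F, z₁ ^ 2 + a * z₁ * z₂ + b * z₂ ^ 2 = 0 → z₁ = 0 ∧ z₂ = 0) {S : Type u} [Group S]
    (e : Cfsg.POmega F (Cfsg.quadFormMinus (m - 1) F a b) ≃* S) : Num.NumML.{u, v} S := by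
  have h2 : (2 : F) ≠ 0 := OrthEl.two_ne hp2
  have h3 : 3 ≤ Nat.card F := RowOrth.three_le_card Fact.out hp2
  have h1 := lb.{u, v} hp2 (OrthForms.minusForm (m - 1) F a b) (OrthForms.nondeg_minusForm (m - 1) F a b hab)
    (n := 2 * m) (by rw [Fintype.card_sum, Fintype.card_sum, Fintype.card_fin, Fintype.card_fin]; omega) (by omega)
  rw [OrthForms.coe_minusForm] at h1
  exact congr h1 (RkPOm.minus hm h2 a b hab)
    ((card_minus hm h2 a b hab).trans (OddExcNum.pow_le_two_pow Nat.card_pos)) (num_even hm h3) e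

end

/-! ### The rows -/

/-- **row `PΩ_{2m+1}(q)`, `q` odd** -/
theorem omOdd (K : Type u) [Group K] (h : KFacts.OddChar @Cfsg.IsPOmegaOddChar K) : Num.NumML.{u, v} K := by
  obtain ⟨p, hp, hp2, F, _, _, _, m, hm, -, ⟨e⟩⟩ := h
  have : Fact p.Prime := ⟨hp⟩
  exact odd hp2 hm e.symm

/-- **row `PΩ⁺_{2m}(q)`, `q` odd** -/
theorem omPlus (K : Type u) [Group K] (h : KFacts.OddChar @Cfsg.IsPOmegaPlusChar K) : Num.NumML.{u, v} K := by
  obtain ⟨p, hp, hp2, F, _, _, _, m, hm, ⟨e⟩⟩ := h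
  have : Fact p.Prime := ⟨hp⟩
  exact plus hp2 hm e.symm

/-- **row `PΩ⁻_{2m}(q)`, `q` odd** -/
theorem omMinus (K : Type u) [Group K] (h : KFacts.OddChar @Cfsg.IsPOmegaMinusChar K) : Num.NumML.{u, v} K := by
  obtain ⟨p, hp, hp2, F, _, _, _, m, a, b, hm, hab, ⟨e⟩⟩ := h
  have : Fact p.Prime := ⟨hp⟩
  exact minus hp2 hm a b hab e.symm

end Cfsg.Agent.Omega.ML.RowOm

end
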